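import Cfsg.Agent.Lib.Blocks.PrimeSylow.Principal
import Cfsg.Agent.Lib.Blocks.PrimeSylow.SmallDegree
import Cfsg.Agent.Lib.CharDegree.Basic

/-!
# No simple group with a Sylow subgroup of order `p` has all degrees below `p`
-/

set_option autoImplicit false

namespace CfsgLib.CharDegree.SmallPrime

open Cfsg CfsgLib.Char CfsgLib.Blocks.PrimeSylow
open scoped ComplexConjugate commutatorElement

variable {G : Type*} [Group G] [Fintype G] [IsSimpleGroup G] {p : ℕ} [Fact p.Prime]
  {P V : Subgroup G}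

/-- A linear character of a nonabelian simple group is trivial. -/
theorem eq_trivChar_of_degree_one (hG : ∃ a b : G, a * b ≠ b * a) (χ : IrrCharacter G)
    (h : charDegree (χ : G → ℂ) = 1) : χ = trivChar G := by
  obtain ⟨a, b, hab⟩ := hG
  have htop : commutator G = ⊤ :=
    ((inferInstance : (commutator G).Normal).eq_bot_or_eq_top).resolve_left fun hbot => hab (by
      have h1 : ⁅a, b⁆ ∈ commutator G :=
        Subgroup.commutator_mem_commutator (Subgroup.mem_top a) (Subgroup.mem_top b)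
      rw [hbot, Subgroup.mem_bot] at h1
      exact commutatorElement_eq_one_iff_mul_comm.1 h1)
  refine irr_ext fun g => ?_
  rw [le_ker_of_degree_one χ h (htop ▸ Subgroup.mem_top g), trivChar_apply,
    ← cast_irrDegree, h, Nat.cast_one]

/-- A nontrivial character of degree below `p` with constant integral value on `P \ 1` has degree
`p - 1` and value `-1`. -/
theorem degree_eq_of_const (h : Setup p P V) [Fintype P] (χ : IrrCharacter G)
    (hχ : χ ≠ trivChar G) (hd : charDegree (χ : G → ℂ) < p) (c : ℤ)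
    (hc : ∀ x ∈ P, x ≠ 1 → (χ : G → ℂ) x = (c : ℂ)) :
    charDegree (χ : G → ℂ) = p - 1 ∧ c = -1 := by
  classical
  set d := charDegree (χ : G → ℂ) with hddef
  have hd1 : (χ : G → ℂ) 1 = (d : ℂ) := (cast_irrDegree χ).symm
  obtain ⟨x, hx, hx1⟩ : ∃ x ∈ P, x ≠ 1 := by
    by_contra hcon
    push Not at hcon
    have : P = ⊥ := (Subgroup.eq_bot_iff_forall _).2 hcon
    have h2 := h.card
    rw [this, Subgroup.card_bot] at h2
    exact h.prime.ne_one h2.symm
  have hcd : c ≠ d := by
    intro hcd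
    have hxker : x ∈ Blocks.charKer χ := by
      rw [Blocks.mem_charKer, hc x hx hx1, hcd, hd1, Int.cast_natCast]
    rcases (Blocks.normal_charKer χ).eq_bot_or_eq_top with hk | hk
    · exact hx1 ((Subgroup.mem_bot).1 (hk ▸ hxker))
    · have hall : ∀ g : G, (χ : G → ℂ) g = (d : ℂ) := fun g => by
        rw [← hd1]
        exact Blocks.mem_charKer.1 (hk ▸ Subgroup.mem_top g)
      have h1 := classInner_irr_of_ne hχ
      simp only [classInner, hall, trivChar_apply, map_one, mul_one, Finset.sum_const,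
        Finset.card_univ, nsmul_eq_mul, ← Nat.card_eq_fintype_card] at h1
      rw [← mul_assoc, inv_mul_cancel₀ (Nat.cast_ne_zero.2 Nat.card_pos.ne'), one_mul,
        Nat.cast_eq_zero] at h1
      exact (charDegree_pos χ).ne' h1
  obtain ⟨m, hm⟩ := h.sum_restrict χ
  rw [← Finset.add_sum_erase _ _ (Finset.mem_univ (1 : P)), Subgroup.coe_one, hd1,
    Finset.sum_congr rfl (g := fun _ => (c : ℂ)) fun (y : P) hy =>
      hc (y : G) y.2 (fun e => Finset.ne_of_mem_erase hy (Subtype.ext e)),
    Finset.sum_const, Finset.card_erase_of_mem (Finset.mem_univ _), Finset.card_univ,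
    ← Nat.card_eq_fintype_card, h.card, nsmul_eq_mul] at hm
  have hm' : (d : ℤ) + ((p - 1 : ℕ) : ℤ) * c = (p : ℤ) * m := by exact_mod_cast hm
  rw [Nat.cast_sub h.prime.one_le, Nat.cast_one] at hm'
  have hle := IsChar.norm_le (IsIrr.isCharacter χ.2) x
  rw [hc x hx hx1, hd1, Complex.norm_natCast, Complex.norm_intCast] at hle
  have hle' : |c| ≤ (d : ℤ) := by exact_mod_cast hle
  have hdpos : 1 ≤ d := charDegree_pos χ
  obtain ⟨hl1, hl2⟩ := abs_le.1 hle'
  have hk : (p : ℤ) * (m - c) = d - c := by linear_combination -hm'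
  have hp2 : (2 : ℤ) ≤ p := by exact_mod_cast h.prime.two_le
  have hd' : (d : ℤ) < p := by exact_mod_cast hd
  have hk1 : (m : ℤ) - c = 1 := by
    rcases lt_trichotomy ((m : ℤ) - c) 1 with h1 | h1 | h1
    · have : (p : ℤ) * (m - c) ≤ 0 := by nlinarith
      omega
    · exact h1
    · have : 2 * (p : ℤ) ≤ p * (m - c) := by nlinarith
      omega
  rw [hk1, mul_one] at hk
  omega

variable [Fintype P] [Fintype V]

/-- The value at `x ∈ P` of a character with constant coefficients. -/
theorem apply_of_const (h : Setup p P V) {M : Ideal AlgInt} [M.IsPrime] (hM : IsPModular p M)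
    (η : IrrCharacter V) {χ : IrrCharacter G} (hχ : χ ∈ blockSet M P (η : V → ℂ)) {w : ℤ}
    (hw : ∀ l, l ≠ trivChar P → h.coef η χ l = w) {x : G} (hx : x ∈ P) (hx1 : x ≠ 1) :
    (χ : G → ℂ) x = ((-(w * (Nat.card (orbitV P η) * charDegree (η : V → ℂ) : ℕ)) : ℤ) : ℂ) := by
  classical
  have := Fintype.ofFinite (IrrCharacter V)
  have e := h.apply_eq_sum (IsIrr.isClassFunction χ.2) hx (1 : V)
  rw [Subgroup.coe_one, mul_one] at e
  rw [e, ← Finset.sum_filter_add_sum_filter_not Finset.univ (· ∈ orbitV P η),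
    Finset.sum_eq_zero (s := Finset.univ.filter (¬ · ∈ orbitV P η)) fun η' hη' => by
      rw [h.dval_eq_zero_of_not_orbit hM hχ (Finset.mem_filter.1 hη').2 hx hx1, zero_mul],
    add_zero, Finset.sum_congr rfl fun η' hη' =>
      show _ = -(w : ℂ) * (charDegree (η : V → ℂ) : ℂ) from ?_, Finset.sum_const,
    ← Fintype.card_subtype, nsmul_eq_mul]
  · rw [← Nat.card_eq_fintype_card]
    push_cast
    ring
  obtain ⟨n, hn, he⟩ := (Finset.mem_filter.1 hη').2
  have hnx : n * x * n⁻¹ ∈ P := (Subgroup.mem_normalizer_iff.1 hn x).1 hx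
  have hnx1 : n * x * n⁻¹ ≠ 1 := fun e' => hx1 (by simpa using e')
  rw [cast_irrDegree, he, ← h.dval_conj (IsIrr.isClassFunction χ.2) x (η : V → ℂ) hn,
    h.dval_of_const η χ hw hnx hnx1, h.cjFun_apply _ hn]
  congr 2
  exact congrArg _ (Subtype.ext (by simp))

/-- The contradiction. -/
theorem false_of_degrees_lt (h : Setup p P V) {M : Ideal AlgInt} [M.IsPrime] (hM : IsPModular p M)
    (hp : p ≠ 2) (hG : ∃ a b : G, a * b ≠ b * a)
    (hdeg : ∀ χ : IrrCharacter G, charDegree (χ : G → ℂ) < p) : False := by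
  classical
  have := Fintype.ofFinite (IrrCharacter G)
  have hp3 : 3 ≤ p := by
    have := h.prime.two_le
    omega
  set f := (Subgroup.centralizer (P : Set G)).relIndex (Subgroup.normalizer (P : Set G)) with hf
  have hfdvd : f ∣ p - 1 := h.centralizer_relIndex_dvd
  obtain ⟨-, X, Y, hXY, hdisj, hXcard, hYcard, εX, ε, hX, hε, -, hYeq, hrel⟩ := h.exists_principal hM hf.symm
  have hfin : ∀ θ ∈ Y, (ε : ℤ) * (charDegree (θ : G → ℂ) : ℤ) =
      ∑ χ ∈ (Set.toFinite X).toFinset, εX χ * (charDegree (χ : G → ℂ) : ℤ) := fun θ hθ => by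
    have h1 := hrel θ hθ 1 (by rw [orderOf_one]; exact fun e => h.prime.ne_one (Nat.dvd_one.1 e))
    rw [finsum_mem_eq_finite_toFinset_sum _ (Set.toFinite X)] at h1
    simp only [← cast_irrDegree] at h1
    exact_mod_cast h1
  have hXval : ∀ χ ∈ X, χ ≠ trivChar G →
      charDegree (χ : G → ℂ) = p - 1 ∧ εX χ = -1 := fun χ hχ hne =>
    degree_eq_of_const h χ hne (hdeg χ) (εX χ) fun x hx hx1 => by
      have := (hX χ hχ).2.2 x hx hx1 1 (one_mem _)
        (by rw [orderOf_one]; exact fun e => h.prime.ne_one (Nat.dvd_one.1 e))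
      rwa [mul_one] at this
  have hYpos : 1 ≤ Nat.card Y := by
    rw [hYcard]
    exact Nat.div_pos (Nat.le_of_dvd (by omega) hfdvd)
      (Nat.pos_of_ne_zero fun h0 => by rw [h0, zero_dvd_iff] at hfdvd; omega)
  obtain ⟨θ, hθ⟩ : Y.Nonempty := Set.nonempty_coe_sort.1 (Nat.card_pos_iff.1 hYpos).1
  have htriv : trivChar G ∈ X := by
    rcases (hXY ▸ Blocks.trivChar_mem_principalBlock (M := M) (G := G) : trivChar G ∈ X ∪ Y) with
      ht | ht
    · exact ht
    exfalso
    have hone : ∀ θ' ∈ Y, θ' = trivChar G := fun θ' hθ' => by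
      refine eq_trivChar_of_degree_one hG θ' ((charDegree_eq_one_iff θ').2 ?_)
      rw [hYeq θ' hθ' _ ht 1 (by rw [orderOf_one]; exact fun e => h.prime.ne_one (Nat.dvd_one.1 e)),
        trivChar_apply]
    have hY1 : Nat.card Y = 1 := le_antisymm
      (Finite.card_le_one_iff_subsingleton.2 ⟨fun a b => Subtype.ext ((hone a a.2).trans (hone b b.2).symm)⟩)
      hYpos
    have hfp : f = p - 1 := by
      obtain ⟨k, hk⟩ := hfdvd
      rw [hY1, hk, Nat.mul_div_cancel_left _ (Nat.pos_of_ne_zero fun h0 => by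
        rw [h0, zero_mul] at hk; omega)] at hYcard
      rw [hk, ← hYcard, mul_one]
    have h1 := hfin _ ht
    have hd1 : charDegree ((trivChar G : IrrCharacter G) : G → ℂ) = 1 := by
      rw [charDegree_eq_one_iff, trivChar_apply]
    rw [hd1, Finset.sum_congr rfl (g := fun _ => -((p : ℤ) - 1)) fun χ hχ => by
        have hχ' := (Set.Finite.mem_toFinset _).1 hχ
        obtain ⟨e1, e2⟩ := hXval χ hχ' (fun e => (Set.disjoint_left.1 hdisj hχ') (e ▸ ht))
        rw [e1, e2, Nat.cast_sub h.prime.one_le]; ring,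
      Finset.sum_const, ← Nat.card_eq_card_finite_toFinset (Set.toFinite X), hXcard, hfp,
      nsmul_eq_mul, Nat.cast_sub h.prime.one_le] at h1
    have hp' : (3 : ℤ) ≤ p := by exact_mod_cast hp3
    rcases hε with e | e <;> rw [e] at h1 <;> push_cast at h1 <;> nlinarith
  have hεtriv : εX (trivChar G) = 1 := by
    obtain ⟨x, hx⟩ : ∃ x : P, x ≠ 1 := by
      have : Nontrivial P := Finite.one_lt_card_iff_nontrivial.1 (h.card ▸ h.prime.one_lt)
      exact exists_ne 1
    have := (hX _ htriv).2.2 x x.2 (fun e => hx (Subtype.ext e)) 1 (one_mem _)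
      (by rw [orderOf_one]; exact fun e => h.prime.ne_one (Nat.dvd_one.1 e))
    rw [trivChar_apply] at this
    exact_mod_cast this.symm
  have hd1 : charDegree ((trivChar G : IrrCharacter G) : G → ℂ) = 1 := by
    rw [charDegree_eq_one_iff, trivChar_apply]
  have hθne : θ ≠ trivChar G := fun e => Set.disjoint_left.1 hdisj htriv (e ▸ hθ)
  have hθ1 : charDegree (θ : G → ℂ) ≠ 1 := fun e => hθne (eq_trivChar_of_degree_one hG θ e)
  have hf2 : f = 2 ∧ ∀ θ' ∈ Y, charDegree (θ' : G → ℂ) = p - 2 := by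
    have key : ∀ θ' ∈ Y, (ε : ℤ) * (charDegree (θ' : G → ℂ) : ℤ) =
        1 - ((f : ℤ) - 1) * ((p : ℤ) - 1) := fun θ' hθ' => by
      rw [hfin θ' hθ', ← Finset.add_sum_erase _ _ ((Set.Finite.mem_toFinset _).2 htriv), hεtriv,
        hd1, Finset.sum_congr rfl (g := fun _ => -((p : ℤ) - 1)) fun χ hχ => by
          obtain ⟨e1, e2⟩ := hXval χ ((Set.Finite.mem_toFinset _).1 (Finset.mem_of_mem_erase hχ))
            (Finset.ne_of_mem_erase hχ)
          rw [e1, e2, Nat.cast_sub h.prime.one_le]; ring,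
        Finset.sum_const, Finset.card_erase_of_mem ((Set.Finite.mem_toFinset _).2 htriv),
        ← Nat.card_eq_card_finite_toFinset (Set.toFinite X), hXcard, nsmul_eq_mul,
        Nat.cast_sub (by
          rw [← hXcard]
          exact Nat.card_pos_iff.2 ⟨⟨⟨_, htriv⟩⟩, inferInstance⟩)]
      push_cast
      ring
    have h1 := key θ hθ
    have hb := hdeg θ
    have hpos : 1 ≤ charDegree (θ : G → ℂ) := charDegree_pos θ
    have hf0 : 1 ≤ f := Nat.pos_of_ne_zero fun h0 => by rw [h0, zero_dvd_iff] at hfdvd; omega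
    have hf2 : f = 2 := by
      rcases (show f = 1 ∨ f = 2 ∨ 3 ≤ f by omega) with h2 | h2 | h2
      · rw [h2] at h1
        rcases hε with e | e <;> rw [e] at h1 <;> push_cast at h1 <;> omega
      · exact h2
      · have h3 : 2 * ((p : ℤ) - 1) ≤ ((f : ℤ) - 1) * ((p : ℤ) - 1) :=
          mul_le_mul_of_nonneg_right (by omega) (by omega)
        rcases hε with e | e <;> rw [e] at h1 <;> omega
    refine ⟨hf2, fun θ' hθ' => ?_⟩
    have h2 := key θ' hθ'
    rw [hf2] at h2
    have := hdeg θ'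
    rcases hε with e | e <;> rw [e] at h2 <;> push_cast at h2 <;> omega
  have hp5 : 5 ≤ p := by
    have := hf2.2 θ hθ
    have h4 : p ≠ 4 := fun e => by rw [e] at h; exact absurd h.prime (by norm_num)
    omega
  -- every character lies in the principal block
  have hall : ∀ χ : IrrCharacter G, χ ∈ X ∪ Y := by
    intro χ
    obtain ⟨η, hη⟩ := h.exists_mem_blockSet hM fun hdvd =>
      absurd (Nat.le_of_dvd (charDegree_pos χ) hdvd) (Nat.not_le.2 (hdeg χ))
    by_cases hηt : η = trivChar V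
    · rw [← hXY, Blocks.PrimeSylow.blockSet_eq Blocks.isPBlock_principalBlock
        Blocks.trivChar_mem_principalBlock (hηt ▸ h.trivChar_mem_blockSet hM)]
      exact hη
    exfalso
    have horb1 : orbitV P (trivChar V : IrrCharacter V) = {trivChar V} := by
      ext ζ
      constructor
      · rintro ⟨n, hn, e'⟩
        exact Subtype.ext (e'.trans (h.cjFun_trivChar hn))
      · rintro rfl
        exact h.mem_orbit_self _
    have hntriv : trivChar G ∉ blockSet M P (η : V → ℂ) := by
      intro hm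
      obtain ⟨x, hx⟩ : ∃ x : P, x ≠ 1 := by
        have : Nontrivial P := Finite.one_lt_card_iff_nontrivial.1 (h.card ▸ h.prime.one_lt)
        exact exists_ne 1
      have hno : (trivChar V : IrrCharacter V) ∉ orbitV P η := fun hm' => hηt (by
        have := h.orbit_eq_of_mem hm'
        rw [horb1] at this
        have h2 := h.mem_orbit_self η
        rw [← this] at h2
        exact h2)
      have h1 := h.dval_eq_zero_of_not_orbit hM hm hno x.2 (fun e => hx (Subtype.ext e))
      rw [dval, show (fun v : V => ((trivChar G : IrrCharacter G) : G → ℂ) ((x : G) * v)) =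
        ((trivChar V : IrrCharacter V) : V → ℂ) from funext fun v => by
          rw [trivChar_apply, trivChar_apply], classInner_irr_self] at h1
      exact one_ne_zero h1
    obtain ⟨-, Y', ε', w, θ', hε', hY'B, hθY', -, -, hXcard', -, hX', -, -, hrel'⟩ :=
      h.exists_structure hM η (Blocks.isPBlock_blockOf χ) (Blocks.mem_blockOf_self χ) hη
    have hBeq := Blocks.PrimeSylow.blockSet_eq (Blocks.isPBlock_blockOf (M := M) χ)
      (Blocks.mem_blockOf_self χ) hη
    set e := h.inertialIndex (η : V → ℂ) with he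
    have he0 : 0 < e := h.inertialIndex_pos η
    have hval : ∀ φ ∈ Cfsg.blockOf M (χ : G → ℂ) \ Y', charDegree (φ : G → ℂ) = p - 1 ∧ w φ = 1 ∧
        Nat.card (orbitV P η) = 1 := by
      intro φ hφ
      have hφη : φ ∈ blockSet M P (η : V → ℂ) := hBeq ▸ hφ.1
      have hne : φ ≠ trivChar G := fun e' => hntriv (e' ▸ hφη)
      obtain ⟨h1, h2⟩ := degree_eq_of_const h φ hne (hdeg φ) _
        fun x hx hx1 => apply_of_const h hM η hφη (hX' φ hφ).2 hx hx1
      have h3 : w φ * (Nat.card (orbitV P η) * charDegree (η : V → ℂ) : ℕ) = 1 := by omega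
      rcases (hX' φ hφ).1 with e' | e' <;> rw [e'] at h3
      · rw [one_mul] at h3
        exact ⟨h1, e', Nat.eq_one_of_mul_eq_one_right (by exact_mod_cast h3)⟩
      · omega
    obtain ⟨φ₀, hφ₀⟩ : (Cfsg.blockOf M (χ : G → ℂ) \ Y').Nonempty :=
      Set.nonempty_coe_sort.1 (Nat.card_pos_iff.1 (hXcard'.symm ▸ he0)).1
    have he2 : e = 2 := by
      have h1 := h.card_orbit_mul η
      rwa [(hval φ₀ hφ₀).2.2, one_mul, ← hf, hf2.1] at h1
    obtain ⟨μ, hμ⟩ : ∃ μ : IrrCharacter P, μ ≠ trivChar P := by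
      have := Fintype.ofFinite (IrrCharacter P)
      have : Nontrivial (IrrCharacter P) := Finite.one_lt_card_iff_nontrivial.1
        (h.card_lchar.symm ▸ h.prime.one_lt)
      exact exists_ne _
    have h1 := hrel' μ hμ 1 (by rw [orderOf_one]; exact fun e' => h.prime.ne_one (Nat.dvd_one.1 e'))
    rw [finsum_mem_eq_finite_toFinset_sum _ (Set.toFinite _),
      Finset.sum_congr rfl (g := fun _ => ((p - 1 : ℕ) : ℂ)) fun φ hφ => by
        obtain ⟨e1, e2, -⟩ := hval φ ((Set.Finite.mem_toFinset _).1 hφ)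
        rw [e2, Int.cast_one, one_mul, ← cast_irrDegree, e1],
      Finset.sum_const, ← Nat.card_eq_card_finite_toFinset, hXcard', he2, nsmul_eq_mul,
      ← cast_irrDegree] at h1
    have h2 : ε' * (charDegree (θ' μ : G → ℂ) : ℤ) + 2 * ((p - 1 : ℕ) : ℤ) = 0 := by
      exact_mod_cast h1
    have := hdeg (θ' μ)
    rcases hε' with e' | e' <;> rw [e'] at h2 <;> omega
  -- the sum of the squares
  have hsq : ((Nat.card G : ℕ) : ℤ) =
      ∑ χ : IrrCharacter G, (charDegree (χ : G → ℂ) : ℤ) ^ 2 := by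
    have h1 := sum_sq_degree (G := G)
    simp only [← cast_irrDegree] at h1
    exact_mod_cast h1.symm
  obtain ⟨φ, hφX, hφne⟩ : ∃ φ ∈ X, φ ≠ trivChar G := by
    refine Set.exists_ne_of_one_lt_ncard ?_ _
    rw [← Nat.card_coe_set_eq, hXcard, hf2.1]
    norm_num
  have hXeq : (Set.toFinite X).toFinset = {trivChar G, φ} := by
    refine (Finset.eq_of_subset_of_card_le ?_ ?_).symm
    · intro χ hχ
      rw [Set.Finite.mem_toFinset]
      rcases Finset.mem_insert.1 hχ with e | e
      · exact e ▸ htriv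
      · exact (Finset.mem_singleton.1 e) ▸ hφX
    · rw [← Nat.card_eq_card_finite_toFinset, hXcard, hf2.1, Finset.card_pair hφne.symm]
  have hdvd : ((p : ℤ) - 2) ∣ ((Nat.card G : ℕ) : ℤ) := by
    have := Int.natCast_dvd_natCast.2 (CfsgLib.CharDegree.charDegree_dvd_card θ)
    rwa [hf2.2 θ hθ, Nat.cast_sub (by omega : 2 ≤ p)] at this
  have hsplit : ((p : ℤ) - 2) ∣
      ∑ χ ∈ Finset.univ \ (Set.toFinite X).toFinset, (charDegree (χ : G → ℂ) : ℤ) ^ 2 := by
    refine Finset.dvd_sum fun χ hχ => ?_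
    rcases hall χ with hc | hc
    · exact absurd ((Set.Finite.mem_toFinset _).2 hc) (Finset.mem_sdiff.1 hχ).2
    · rw [hf2.2 χ hc, Nat.cast_sub (by omega : 2 ≤ p)]
      exact dvd_pow_self _ two_ne_zero
  rw [hsq, ← Finset.sum_sdiff (Finset.subset_univ (Set.toFinite X).toFinset)] at hdvd
  have h2 := (dvd_add_right hsplit).1 hdvd
  rw [hXeq, Finset.sum_pair hφne.symm, hd1, (hXval φ hφX hφne).1,
    Nat.cast_sub h.prime.one_le] at h2
  have h3 : ((p : ℤ) - 2) ∣ 2 := by
    obtain ⟨k, hk⟩ := h2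
    exact ⟨k - p, by push_cast at hk ⊢; linear_combination hk⟩
  have := Int.le_of_dvd (by norm_num) h3
  omega

end CfsgLib.CharDegree.SmallPrime
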