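import Cfsg.Agent.Lib.CharDegree.SmallDegrees.TI
import Cfsg.Agent.Lib.CharDegree.SmallDegrees.Prime
import Cfsg.Agent.Lib.CharDegree.ItoMichler
import Cfsg.Agent.Lib.ZStar.PrincipalBlock

/-!
# All degrees below `p` give a normal abelian Sylow `p`-subgroup
-/

set_option autoImplicit false

namespace CfsgLib.CharDegree.SmallDegrees

open Cfsg CfsgLib.Char

universe u

variable {p : ℕ} [Fact p.Prime] {G : Type u} [Group G] [Finite G]

omit [Fact p.Prime] in
/-- A character of a subgroup lies under one of at least the same degree. -/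
theorem exists_degree_le (H : Subgroup G) (θ : IrrCharacter H) :
    ∃ χ : IrrCharacter G, charDegree (θ : H → ℂ) ≤ charDegree (χ : G → ℂ) := by
  classical
  have := Fintype.ofFinite G
  have := Fintype.ofFinite H
  have := Fintype.ofFinite (IrrCharacter G)
  have := Fintype.ofFinite (IrrCharacter H)
  obtain ⟨a, ha⟩ := IsChar.exists_sum (isCharacter_indFun H (IsIrr.isCharacter θ.2))
  obtain ⟨χ, hχ⟩ : ∃ χ, a χ ≠ 0 := by
    by_contra hcon
    push Not at hcon
    have h1 := congrFun ha 1
    rw [indFun_apply_one] at h1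
    simp [hcon, IsIrr.apply_one_ne_zero θ.2] at h1
    exact Subgroup.index_ne_zero_of_finite h1
  refine ⟨χ, ?_⟩
  obtain ⟨m, hm⟩ := IsChar.exists_sum (IsChar.restrict H (IsIrr.isCharacter χ.2))
  have hmθ : m θ = a χ := by
    have h1 := frobenius_reciprocity H (θ : H → ℂ) (IsIrr.isClassFunction χ.2)
    rw [ha, classInner_sum_irr, hm, ← classInner_conj_symm, classInner_sum_irr, map_natCast] at h1
    exact_mod_cast h1.symm
  have hsum : charDegree (χ : G → ℂ) = ∑ η, m η * charDegree (η : H → ℂ) := by
    rw [← Nat.cast_inj (R := ℂ), cast_irrDegree, Nat.cast_sum]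
    have h1 := congrFun hm 1
    simp only [Subgroup.coe_one, Finset.sum_apply, Pi.smul_apply, smul_eq_mul] at h1
    rw [h1]
    simp [cast_irrDegree]
  rw [hsum]
  exact (Nat.le_mul_of_pos_left _ (Nat.pos_of_ne_zero (hmθ ▸ hχ))).trans
    (Finset.single_le_sum (f := fun η => m η * charDegree (η : H → ℂ)) (fun η _ => Nat.zero_le _)
      (Finset.mem_univ θ))

theorem lt_of_subgroup (hdeg : ∀ χ : IrrCharacter G, charDegree (χ : G → ℂ) < p) (H : Subgroup G)
    (θ : IrrCharacter H) : charDegree (θ : H → ℂ) < p := by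
  obtain ⟨χ, hχ⟩ := exists_degree_le H θ
  exact hχ.trans_lt (hdeg χ)

/-- The `p`-subgroups are abelian. -/
theorem comm_of_pGroup (hdeg : ∀ χ : IrrCharacter G, charDegree (χ : G → ℂ) < p) (P : Subgroup G)
    (hP : IsPGroup p P) : ∀ a b : P, a * b = b * a := by
  refine comm_of_forall_linear fun θ => ?_
  obtain ⟨k, hk⟩ := IsPGroup.iff_card.1 hP
  obtain ⟨j, -, hj⟩ := (Nat.dvd_prime_pow (Fact.out : p.Prime)).1 (hk ▸ charDegree_dvd_card θ)
  have hlt := lt_of_subgroup hdeg P θ
  rcases j with _ | j
  · simpa using hj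
  · exact absurd hlt (Nat.not_lt.2 (hj ▸ Nat.le_self_pow (Nat.succ_ne_zero j) p))

omit [Fact p.Prime] in
/-- A normal `p'`-subgroup with `p`-power index gives `p`-solvability. -/
theorem isPSolvable_of_index (N : Subgroup G) [N.Normal] (hN : ¬ p ∣ Nat.card N) (hp : p.Prime)
    (hidx : ∃ k, N.index = p ^ k) : IsPSolvable p G := by
  refine ⟨2, ![⊥, N, ⊤], rfl, rfl, ?_, ?_, ?_⟩
  · rw [Fin.monotone_iff_le_succ]
    intro i
    fin_cases i <;> simp
  · intro i
    fin_cases i <;> simp <;> infer_instance
  · intro i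
    fin_cases i
    · right
      simpa [Subgroup.relIndex_bot_left] using (hp.coprime_iff_not_dvd.2 hN).symm
    · left
      simpa [Subgroup.relIndex_top_right] using hidx

/-- The theorem. -/
theorem sylow_normal : ∀ (n : ℕ) {G : Type u} [Group G] [Finite G], Nat.card G = n →
    (∀ χ : IrrCharacter G, charDegree (χ : G → ℂ) < p) → ∀ P : Sylow p G,
      (P : Subgroup G).Normal := by
  intro n
  induction n using Nat.strongRecOn with
  | ind n ih =>
  intro G _ _ hn hdeg P
  classical
  have := Fintype.ofFinite G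
  have hp : p.Prime := Fact.out
  by_contra hnn
  set N := Subgroup.normalizer ((P : Subgroup G) : Set G) with hNdef
  -- the proper subgroups
  have hsub : ∀ H : Subgroup G, H ≠ ⊤ → ∀ Q : Sylow p H, (Q : Subgroup H).Normal := fun H hH =>
    ih _ (hn ▸ lt_of_le_of_ne (Subgroup.card_le_card_group H)
      (fun e => hH (Subgroup.eq_top_of_card_eq H e))) rfl (lt_of_subgroup hdeg H)
  have hPcomm := comm_of_pGroup hdeg (P : Subgroup G) P.2
  by_cases hab : ∀ a b : G, a * b = b * a
  · exact hnn ⟨fun x hx g => by rwa [hab g x, mul_inv_cancel_right]⟩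
  push Not at hab
  -- the group is simple
  have hsimple : IsSimpleGroup G := by
    obtain ⟨a, b, hab⟩ := hab
    have : Nontrivial G := ⟨⟨a * b, b * a, hab⟩⟩
    refine ⟨fun K hK => ?_⟩
    by_contra hne
    push Not at hne
    obtain ⟨hK1, hK2⟩ := hne
    have hlt : Nat.card (G ⧸ K) < n := by
      rw [← hn, Subgroup.card_eq_card_quotient_mul_card_subgroup K]
      exact lt_mul_of_one_lt_right Nat.card_pos ((Subgroup.one_lt_card_iff_ne_bot K).2 hK1)
    have hq := ih _ hlt (G := G ⧸ K) rfl (fun χ => by rw [← charDegree_infl K χ]; exact hdeg _)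
      (P.mapSurjective (QuotientGroup.mk'_surjective K))
    have hH : ((P : Subgroup G) ⊔ K).Normal := by
      have h1 := hq.comap (QuotientGroup.mk' K)
      rw [Sylow.coe_mapSurjective, Subgroup.comap_map_eq, QuotientGroup.ker_mk'] at h1
      exact h1
    set H := (P : Subgroup G) ⊔ K with hHdef
    by_cases hHtop : H = ⊤
    · -- `G = P K`
      have hidx : ∃ k, K.index = p ^ k := by
        have h1 : K.index ∣ Nat.card (P : Subgroup G) := by
          rw [← Subgroup.relIndex_top_right, ← hHtop, hHdef, Subgroup.relIndex_sup_right]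
          exact Subgroup.relIndex_dvd_card _ _
        obtain ⟨k, hk⟩ := IsPGroup.iff_card.1 P.2
        obtain ⟨j, -, hj⟩ := (Nat.dvd_prime_pow hp).1 (hk ▸ h1)
        exact ⟨j, hj⟩
      by_cases hpK : p ∣ Nat.card K
      · obtain ⟨Q⟩ := (inferInstance : Nonempty (Sylow p K))
        have hQn := hsub K hK2 Q
        have hchar : (Q : Subgroup K).Characteristic := Sylow.characteristic_of_normal Q hQn
        have hR : ((Q : Subgroup K).map K.subtype).Normal :=
          ConjAct.normal_of_characteristic_of_normal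
        set R := (Q : Subgroup K).map K.subtype
        have hRp : IsPGroup p R := Q.2.map _
        have hR1 : R ≠ ⊥ := fun e => by
          rw [Subgroup.map_eq_bot_iff_of_injective _ K.subtype_injective] at e
          exact Q.ne_bot_of_dvd_card hpK e
        have hRlt : Nat.card (G ⧸ R) < n := by
          rw [← hn, Subgroup.card_eq_card_quotient_mul_card_subgroup R]
          exact lt_mul_of_one_lt_right Nat.card_pos ((Subgroup.one_lt_card_iff_ne_bot R).2 hR1)
        have hq' := ih _ hRlt (G := G ⧸ R) rfl (fun χ => by rw [← charDegree_infl R χ]; exact hdeg _)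
          (P.mapSurjective (QuotientGroup.mk'_surjective R))
        have h1 := hq'.comap (QuotientGroup.mk' R)
        rw [Sylow.coe_mapSurjective, Subgroup.comap_map_eq, QuotientGroup.ker_mk',
          sup_eq_left.2 (hRp.le_sylow_of_normal P)] at h1
        exact hnn h1
      · refine hnn ((itoMichler (Or.inl (isPSolvable_of_index K hpK hp hidx)) P).2 fun χ hd => ?_).1
        exact absurd (Nat.le_of_dvd (charDegree_pos χ) hd) (Nat.not_le.2 (hdeg χ))
    · have hPn := hsub H hHtop (P.subtype le_sup_left)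
      have : H.Normal := hH
      have h2 := Sylow.normalizer_sup_eq_top' (N := H) P le_sup_left
      have h3 : H ≤ Subgroup.normalizer ((P : Subgroup G) : Set G) := by
        rw [Sylow.coe_subtype] at hPn
        exact (Subgroup.normal_subgroupOf_iff_le_normalizer le_sup_left).1 hPn
      rw [← Sylow.coe_coe, sup_eq_left.2 h3] at h2
      exact hnn (Subgroup.normalizer_eq_top_iff.1 h2)
  obtain ⟨k, hk⟩ := IsPGroup.iff_card.1 P.2
  rcases (show k = 0 ∨ k = 1 ∨ 2 ≤ k by omega) with h0 | h0 | h0
  · have hbot : (P : Subgroup G) = ⊥ := Subgroup.card_eq_one.1 (by rw [hk, h0, pow_zero])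
    exact hnn (hbot ▸ inferInstance)
  · rw [h0, pow_one] at hk
    by_cases hp2 : p = 2
    · refine hab.elim fun a ⟨b, hab⟩ => hab (comm_of_forall_linear (fun χ => ?_) a b)
      have := hdeg χ
      have := charDegree_pos χ
      omega
    have := Fintype.ofFinite (P : Subgroup G)
    obtain ⟨M, hM⟩ := CfsgLib.ZStar.exists_isPModular hp
    have := hM.2.1.isPrime
    obtain ⟨V, hV⟩ := CfsgLib.Blocks.PrimeSylow.exists_setup hk P.not_dvd_index
    have := Fintype.ofFinite V
    exact SmallPrime.false_of_degrees_lt hV hM hp2 hab hdeg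
  · -- a TI subgroup of order at least `p ^ 2`
    have hTI : ∀ g : G, ∀ y ∈ (P : Subgroup G), y ≠ 1 → g * y * g⁻¹ ∈ (P : Subgroup G) →
        g ∈ N := by
      intro g y hy hy1 hgy
      have hC : ∀ z ∈ (P : Subgroup G), z ≠ 1 → Subgroup.centralizer ({z} : Set G) ≤ N := by
        intro z hz hz1
        have hPC : (P : Subgroup G) ≤ Subgroup.centralizer ({z} : Set G) := fun w hw => by
          rw [Subgroup.mem_centralizer_singleton_iff]
          exact congrArg Subtype.val (hPcomm ⟨w, hw⟩ ⟨z, hz⟩)
        have hCtop : Subgroup.centralizer ({z} : Set G) ≠ ⊤ := by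
          intro e
          have hzc : z ∈ Subgroup.center G := Subgroup.mem_center_iff.2 fun w =>
            (Subgroup.mem_centralizer_singleton_iff.1 (show w ∈ Subgroup.centralizer ({z} : Set G) by
              rw [e]; exact Subgroup.mem_top w))
          rcases (Subgroup.center G).normal_of_characteristic.eq_bot_or_eq_top with h1 | h1
          · exact hz1 (Subgroup.mem_bot.1 (h1 ▸ hzc))
          · obtain ⟨a, b, hab⟩ := hab
            exact hab ((Subgroup.mem_center_iff.1 (show b ∈ Subgroup.center G by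
              rw [h1]; exact Subgroup.mem_top b)) a)
        have hPn := hsub _ hCtop (P.subtype hPC)
        rw [Sylow.coe_subtype] at hPn
        exact (Subgroup.normal_subgroupOf_iff_le_normalizer hPC).1 hPn
      -- `C(y)` normalizes both `P` and `g⁻¹ P g`
      have hy' : g * y * g⁻¹ ≠ 1 := fun e => hy1 (by simpa using e)
      have hle : ∀ w ∈ (P : Subgroup G), g * w * g⁻¹ ∈ N := fun w hw =>
        hC _ hgy hy' (Subgroup.mem_centralizer_singleton_iff.2 (by
          have : w * y = y * w := congrArg Subtype.val (hPcomm ⟨w, hw⟩ ⟨y, hy⟩)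
          rw [show g * w * g⁻¹ * (g * y * g⁻¹) = g * (w * y) * g⁻¹ by group,
            show g * y * g⁻¹ * (g * w * g⁻¹) = g * (y * w) * g⁻¹ by group, this]))
      have hsub' : ((P : Subgroup G).map (MulAut.conj g).toMonoidHom) ≤ N := by
        rintro _ ⟨w, hw, rfl⟩
        exact hle w hw
      have hpow : ∀ w ∈ N, (∃ j, w ^ p ^ j = 1) → w ∈ (P : Subgroup G) := fun w hw ⟨j, hj⟩ =>
        mem_of_pGroup_normalizer P hw hj
      refine Subgroup.mem_normalizer_iff.2 fun w => ⟨fun hw => ?_, fun hw => ?_⟩
      · refine hpow _ (hle w hw) ?_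
        obtain ⟨j, hj⟩ := P.2 ⟨w, hw⟩
        refine ⟨j, ?_⟩
        rw [conj_pow, show w ^ p ^ j = 1 from congrArg Subtype.val hj, mul_one, mul_inv_cancel]
      · have hmap : (P : Subgroup G).map (MulAut.conj g).toMonoidHom = (P : Subgroup G) := by
          refine Subgroup.eq_of_le_of_card_ge ?_ (le_of_eq ?_)
          · rintro _ ⟨v, hv, rfl⟩
            refine hpow _ (hle v hv) ?_
            obtain ⟨j, hj⟩ := P.2 ⟨v, hv⟩
            refine ⟨j, ?_⟩
            show (g * v * g⁻¹) ^ p ^ j = 1
            rw [conj_pow, show v ^ p ^ j = 1 from congrArg Subtype.val hj, mul_one, mul_inv_cancel]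
          · exact (Subgroup.card_map_of_injective (MulEquiv.injective _)).symm
        rw [← hmap] at hw
        obtain ⟨v, hv, e⟩ := hw
        have e' : g * v * g⁻¹ = g * w * g⁻¹ := e
        rwa [← (mul_left_cancel (mul_right_cancel e'))]
    have hmem : ∀ y ∈ (P : Subgroup G), ∀ g : G, g * y * g⁻¹ ∈ N → g * y * g⁻¹ ∈ (P : Subgroup G) := by
      intro y hy g hg
      obtain ⟨j, hj⟩ := P.2 ⟨y, hy⟩
      refine mem_of_pGroup_normalizer P hg (j := j) ?_
      rw [conj_pow, show y ^ p ^ j = 1 from congrArg Subtype.val hj, mul_one, mul_inv_cancel]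
    obtain ⟨χ, hχ⟩ := SmallTI.exists_charDegree_ge hp.two_le hPcomm
      (hk ▸ Nat.pow_le_pow_right hp.pos h0) hTI hmem hnn
    exact absurd hχ (Nat.not_le.2 (hdeg χ))
where
  mem_of_pGroup_normalizer {G : Type u} [Group G] [Finite G] (P : Sylow p G) {w : G} {j : ℕ}
      (hw : w ∈ Subgroup.normalizer ((P : Subgroup G) : Set G)) (hj : w ^ p ^ j = 1) :
      w ∈ (P : Subgroup G) := by
    have hz : IsPGroup p (Subgroup.zpowers w) := by
      obtain ⟨i, -, hi⟩ := (Nat.dvd_prime_pow (Fact.out : p.Prime)).1 (orderOf_dvd_of_pow_eq_one hj)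
      exact IsPGroup.of_card (by rw [Nat.card_zpowers, hi])
    exact (IsPGroup.inf_normalizer_sylow hz P).le ⟨Subgroup.mem_zpowers w, hw⟩ |>.2

end CfsgLib.CharDegree.SmallDegrees
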