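import Cfsg.Agent.Lib.Char.Induced
import Cfsg.Agent.Lib.Char.Complete
import Cfsg.Agent.Lib.CharDegree.Basic
import Mathlib.GroupTheory.Sylow

/-!
# An abelian TI subgroup of order at least `p ^ 2` forces a character of degree at least `p`
-/

set_option autoImplicit false

namespace CfsgLib.CharDegree.SmallTI

open Cfsg CfsgLib.Char
open scoped ComplexConjugate

variable {G : Type*} [Group G] [Fintype G] {P : Subgroup G}

/-- The index of the normalizer of a TI subgroup exceeds its order. -/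
theorem lt_index_normalizer (hTI : ∀ g : G, ∀ y ∈ P, y ≠ 1 → g * y * g⁻¹ ∈ P →
      g ∈ Subgroup.normalizer (P : Set G))
    (hmem : ∀ y ∈ P, ∀ g : G, g * y * g⁻¹ ∈ Subgroup.normalizer (P : Set G) → g * y * g⁻¹ ∈ P)
    (hnn : ¬ P.Normal) :
    Nat.card P < (Subgroup.normalizer (P : Set G)).index := by
  classical
  set N := Subgroup.normalizer (P : Set G) with hN
  obtain ⟨g, hg⟩ : ∃ g : G, g ∉ N := by
    by_contra h
    push Not at h
    exact hnn (Subgroup.normalizer_eq_top_iff.1 (eq_top_iff.2 fun g _ => h g))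
  let f : Option P → G ⧸ N := fun o => o.elim (QuotientGroup.mk 1) fun y => QuotientGroup.mk ((y : G) * g)
  have hf : Function.Injective f := by
    rintro (_ | a) (_ | b) h
    · rfl
    · exfalso
      have h1 := QuotientGroup.eq.1 h
      rw [inv_one, one_mul] at h1
      exact hg ((Subgroup.mul_mem_cancel_left N (Subgroup.le_normalizer b.2)).1 h1)
    · exfalso
      have h1 := QuotientGroup.eq.1 h.symm
      rw [inv_one, one_mul] at h1
      exact hg ((Subgroup.mul_mem_cancel_left N (Subgroup.le_normalizer a.2)).1 h1)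
    · have h1 := QuotientGroup.eq.1 h
      have h2 : g⁻¹ * ((a : G)⁻¹ * b) * (g⁻¹)⁻¹ ∈ N := by
        rw [inv_inv]
        simpa [mul_assoc] using h1
      have h3 := hmem _ (mul_mem (inv_mem a.2) b.2) g⁻¹ h2
      have h4 : (a : G)⁻¹ * b = 1 := by
        by_contra hne
        exact hg (inv_mem_iff.1 (hTI g⁻¹ _ (mul_mem (inv_mem a.2) b.2) hne h3))
      rw [Subtype.ext (inv_mul_eq_one.1 h4)]
  have h := Nat.card_le_card_of_injective f hf
  rw [Finite.card_option, ← Subgroup.index] at h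
  omega

/-- The squared norm of an induced generalized character vanishing at `1`. -/
theorem card_mul_norm_le [Fintype P] (hTI : ∀ g : G, ∀ y ∈ P, y ≠ 1 → g * y * g⁻¹ ∈ P →
      g ∈ Subgroup.normalizer (P : Set G)) (f : P → ℂ) (h0 : f 1 = 0) :
    (Nat.card P : ℝ) ^ 2 * ‖classInner (indFun P f) (fun g => indFun P f g)‖ ≤
      (Nat.card (Subgroup.normalizer (P : Set G)) : ℝ) * ∑ y : P, ‖f y‖ ^ 2 ∨
    ¬ IsClassFunction G (indFun P f) := by
  classical
  refine or_iff_not_imp_right.2 fun hcl => ?_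
  rw [not_not] at hcl
  set N := Subgroup.normalizer (P : Set G) with hN
  have hq : (Nat.card P : ℂ) ≠ 0 := Nat.cast_ne_zero.2 Nat.card_pos.ne'
  have hzero : ∀ (y : P) (x : G), x ∉ N → f y * conj (extendByZero P f (x⁻¹ * y * x)) = 0 := by
    intro y x hx
    by_cases hy : y = 1
    · rw [hy, h0, zero_mul]
    rw [extendByZero_of_notMem, map_zero, mul_zero]
    intro hm
    refine hx (inv_mem_iff.1 (hTI x⁻¹ y y.2 (fun e => hy (Subtype.ext e)) ?_))
    rwa [inv_inv]
  have e : (Nat.card P : ℂ) ^ 2 * classInner (indFun P f) (fun g => indFun P f g) =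
      ∑ x ∈ Finset.univ.filter (· ∈ N), ∑ y : P, f y * conj (extendByZero P f (x⁻¹ * y * x)) := by
    rw [frobenius_reciprocity P f hcl, classInner, sq, mul_assoc, ← mul_assoc (Nat.card P : ℂ) _⁻¹,
      mul_inv_cancel₀ hq, one_mul, Finset.mul_sum, Finset.sum_comm (s := Finset.univ.filter _)]
    refine Finset.sum_congr rfl fun y _ => ?_
    rw [Finset.sum_filter]
    rw [indFun, map_mul, map_inv₀, map_natCast, ← mul_assoc, mul_comm (Nat.card P : ℂ) (f y),
      mul_assoc (f y), ← mul_assoc (Nat.card P : ℂ), mul_inv_cancel₀ hq, one_mul, map_sum,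
      Finset.mul_sum]
    refine Finset.sum_congr rfl fun x _ => ?_
    split_ifs with hx
    · rfl
    · exact hzero y x hx
  have e' := congrArg (fun z : ℂ => ‖z‖) e
  simp only [norm_mul, norm_pow, Complex.norm_natCast] at e'
  rw [e']
  refine (norm_sum_le _ _).trans ?_
  have hb : ∀ x ∈ Finset.univ.filter (· ∈ N),
      ‖∑ y : P, f y * conj (extendByZero P f (x⁻¹ * y * x))‖ ≤ ∑ y : P, ‖f y‖ ^ 2 := by
    intro x hx
    have hxN : x ∈ N := (Finset.mem_filter.1 hx).2
    have hxP : ∀ y : P, x⁻¹ * y * x ∈ P := fun y => by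
      have := (Subgroup.mem_normalizer_iff.1 (inv_mem hxN) (y : G)).1 y.2
      simpa using this
    let σ : P → P := fun y => ⟨x⁻¹ * y * x, hxP y⟩
    have hσ : Function.Bijective σ := Finite.injective_iff_bijective.1 fun a b h => by
      simpa [σ] using congrArg Subtype.val h
    calc ‖∑ y : P, f y * conj (extendByZero P f (x⁻¹ * y * x))‖
        ≤ ∑ y : P, ‖f y‖ * ‖f (σ y)‖ := by
          refine (norm_sum_le _ _).trans (le_of_eq (Finset.sum_congr rfl fun y _ => ?_))
          rw [norm_mul, Complex.norm_conj, extendByZero_of_mem P f (hxP y)]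
      _ ≤ ∑ y : P, (‖f y‖ ^ 2 + ‖f (σ y)‖ ^ 2) / 2 := Finset.sum_le_sum fun y _ => by
          nlinarith [sq_nonneg (‖f y‖ - ‖f (σ y)‖)]
      _ = ∑ y : P, ‖f y‖ ^ 2 := by
          rw [← Finset.sum_div, Finset.sum_add_distrib,
            hσ.sum_comp (fun y => ‖f y‖ ^ 2)]
          ring
  refine (Finset.sum_le_sum hb).trans (le_of_eq ?_)
  rw [Finset.sum_const, nsmul_eq_mul, ← Fintype.card_subtype, ← Nat.card_eq_fintype_card]

/-- An abelian TI subgroup of order `q ≥ p ^ 2`, not normal, gives a character of degree `≥ p`. -/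
theorem exists_charDegree_ge {p : ℕ} (hp : 2 ≤ p) (hcomm : ∀ a b : P, a * b = b * a)
    (hq : p ^ 2 ≤ Nat.card P)
    (hTI : ∀ g : G, ∀ y ∈ P, y ≠ 1 → g * y * g⁻¹ ∈ P → g ∈ Subgroup.normalizer (P : Set G))
    (hmem : ∀ y ∈ P, ∀ g : G, g * y * g⁻¹ ∈ Subgroup.normalizer (P : Set G) → g * y * g⁻¹ ∈ P)
    (hnn : ¬ P.Normal) : ∃ χ : IrrCharacter G, p ≤ charDegree (χ : G → ℂ) := by
  classical
  by_contra hcon
  push Not at hcon
  have := Fintype.ofFinite (IrrCharacter G)
  have := Fintype.ofFinite (IrrCharacter P)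
  set q := Nat.card P with hqdef
  set N := Subgroup.normalizer (P : Set G) with hN
  have hcardP : Fintype.card (IrrCharacter P) = q := by
    rw [← Nat.card_eq_fintype_card, card_irrCharacter]
    refine (Nat.card_congr (Equiv.ofBijective _ ⟨?_, ConjClasses.mk_surjective⟩)).symm
    intro a b e
    obtain ⟨c, hc⟩ := isConj_iff.1 (ConjClasses.mk_eq_mk_iff_isConj.1 e)
    rw [← hc, hcomm c a, mul_inv_cancel_right]
  have hlin : ∀ l : IrrCharacter P, (l : P → ℂ) 1 = 1 := fun l =>
    (charDegree_eq_one_iff l).1 (charDegree_of_comm hcomm l)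
  choose a ha using fun (χ : IrrCharacter G) (l : IrrCharacter P) =>
    IsChar.classInner_eq_natCast (IsIrr.isCharacter l.2)
      (IsChar.restrict P (IsIrr.isCharacter χ.2))
  -- Frobenius reciprocity and degrees
  have hrec : ∀ (χ : IrrCharacter G) (l : IrrCharacter P),
      classInner (indFun P (l : P → ℂ)) (χ : G → ℂ) = a χ l := fun χ l => by
    rw [frobenius_reciprocity P _ (IsIrr.isClassFunction χ.2)]
    exact ha χ l
  have hdeg : ∀ χ : IrrCharacter G, ∑ l, a χ l = charDegree (χ : G → ℂ) := fun χ => by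
    obtain ⟨m, hm⟩ := IsChar.exists_sum (IsChar.restrict P (IsIrr.isCharacter χ.2))
    have hma : ∀ l, m l = a χ l := fun l => by
      have h1 := congrArg conj (ha χ l)
      rw [classInner_conj_symm, hm, classInner_sum_irr, map_natCast] at h1
      exact_mod_cast h1
    rw [← Nat.cast_inj (R := ℂ), cast_irrDegree, Nat.cast_sum]
    have h1 := congrFun hm 1
    simp only [Subgroup.coe_one, Finset.sum_apply, Pi.smul_apply, hlin, smul_eq_mul, mul_one] at h1
    rw [h1]
    simp [hma]
  have hind : ∀ l : IrrCharacter P, P.index = ∑ χ, a χ l * charDegree (χ : G → ℂ) := fun l => by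
    rw [← Nat.cast_inj (R := ℂ), Nat.cast_sum]
    have h1 := classFunction_apply_eq_sum (isClassFunction_indFun P (l : P → ℂ)) 1
    rw [indFun_apply_one, hlin, mul_one] at h1
    rw [h1]
    simp [hrec, cast_irrDegree]
  -- the norm of a difference
  have hnorm : ∀ l μ : IrrCharacter P,
      q * ∑ χ, ((a χ l : ℤ) - a χ μ) ^ 2 ≤ (2 * Nat.card N : ℤ) := by
    intro l μ
    by_cases hlm : l = μ
    · subst hlm
      simp
    set f : P → ℂ := (l : P → ℂ) - (μ : P → ℂ) with hf
    have hcl := isClassFunction_indFun P f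
    have h1 := (card_mul_norm_le hTI f (by simp [hf, hlin])).resolve_right (not_not.2 hcl)
    have hsum : (∑ y : P, ‖f y‖ ^ 2 : ℝ) = 2 * q := by
      have h2 : classInner f f = 2 := by
        rw [hf, classInner_sub_left, classInner_sub_right, classInner_sub_right,
          classInner_irr_self, classInner_irr_self, classInner_irr_of_ne hlm,
          classInner_irr_of_ne (Ne.symm hlm)]
        norm_num
      rw [classInner, inv_mul_eq_iff_eq_mul₀ (Nat.cast_ne_zero.2 Nat.card_pos.ne')] at h2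
      have h3 : ((∑ y : P, ‖f y‖ ^ 2 : ℝ) : ℂ) = ((2 * q : ℝ) : ℂ) := by
        push_cast
        rw [mul_comm (2 : ℂ), hqdef, ← h2]
        exact Finset.sum_congr rfl fun y _ => (Complex.mul_conj' _).symm
      exact_mod_cast h3
    have h4 : classInner (indFun P f) (fun g => indFun P f g) =
        ((∑ χ, ((a χ l : ℤ) - a χ μ) ^ 2 : ℤ) : ℂ) := by
      rw [classInner_eq_sum hcl, Int.cast_sum]
      refine Finset.sum_congr rfl fun χ _ => ?_
      rw [hf, indFun_sub, classInner_sub_left, hrec, hrec, map_sub, map_natCast, map_natCast]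
      push_cast
      ring
    rw [h4, hsum, Complex.norm_intCast, abs_of_nonneg (Int.cast_nonneg (Finset.sum_nonneg fun χ _ => sq_nonneg _)), ← hqdef] at h1
    have hq0 : (0 : ℝ) < q := by exact_mod_cast Nat.card_pos
    have h5 : (q : ℝ) * ((∑ χ, ((a χ l : ℤ) - a χ μ) ^ 2 : ℤ) : ℝ) ≤ 2 * (Nat.card N : ℝ) :=
      le_of_mul_le_mul_left (by linarith) hq0
    exact_mod_cast h5
  -- count
  obtain ⟨l, hl⟩ : ∃ l : IrrCharacter P, l ≠ trivChar P := by
    have : Nontrivial (IrrCharacter P) := Fintype.one_lt_card_iff_nontrivial.1 (by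
      rw [hcardP]; nlinarith)
    exact exists_ne _
  have hzero : ∀ χ : IrrCharacter G,
      q + 1 ≤ (Finset.univ.filter fun μ => a χ μ = 0).card + p := by
    intro χ
    have h1 := Finset.card_filter_add_card_filter_not (s := (Finset.univ : Finset (IrrCharacter P)))
      (fun μ => a χ μ = 0)
    rw [Finset.card_univ, hcardP] at h1
    have h2 : (Finset.univ.filter fun μ => ¬ a χ μ = 0).card ≤ charDegree (χ : G → ℂ) := by
      rw [← hdeg χ, Finset.card_eq_sum_ones]
      exact (Finset.sum_le_sum fun μ hμ => Nat.one_le_iff_ne_zero.2 (Finset.mem_filter.1 hμ).2).trans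
        (Finset.sum_le_sum_of_subset (Finset.filter_subset _ _))
    have := hcon χ
    omega
  set S := ∑ χ : IrrCharacter G, a χ l
  have hA : (q : ℤ) * ((q : ℤ) + 1 - p) * S ≤ q * (2 * Nat.card N) := by
    calc (q : ℤ) * ((q : ℤ) + 1 - p) * S
        = ∑ χ : IrrCharacter G, (q : ℤ) * (((q : ℤ) + 1 - p) * a χ l) := by
          simp only [S, Nat.cast_sum, Finset.mul_sum, mul_assoc]
      _ ≤ ∑ χ : IrrCharacter G, ∑ μ, (q : ℤ) * ((a χ l : ℤ) - a χ μ) ^ 2 := by
          refine Finset.sum_le_sum fun χ _ => ?_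
          rw [← Finset.mul_sum]
          refine mul_le_mul_of_nonneg_left ?_ (Int.natCast_nonneg _)
          have h1 : ((Finset.univ.filter fun μ => a χ μ = 0).card : ℤ) * a χ l ≤
              ∑ μ, ((a χ l : ℤ) - a χ μ) ^ 2 := by
            refine le_trans ?_ (Finset.sum_le_sum_of_subset_of_nonneg (Finset.filter_subset
              (fun μ => a χ μ = 0) _) fun μ _ _ => sq_nonneg _)
            rw [← nsmul_eq_mul, ← Finset.sum_const]
            refine Finset.sum_le_sum fun μ hμ => ?_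
            rw [(Finset.mem_filter.1 hμ).2, Nat.cast_zero, sub_zero]
            exact Int.le_self_sq _
          refine le_trans (mul_le_mul_of_nonneg_right ?_ (Int.natCast_nonneg _)) h1
          have := hzero χ
          omega
      _ = ∑ μ, (q : ℤ) * ∑ χ : IrrCharacter G, ((a χ l : ℤ) - a χ μ) ^ 2 := by
          rw [Finset.sum_comm]
          simp only [Finset.mul_sum]
      _ ≤ ∑ _μ : IrrCharacter P, (2 * Nat.card N : ℤ) := Finset.sum_le_sum fun μ _ => hnorm l μ
      _ = q * (2 * Nat.card N) := by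
          rw [Finset.sum_const, Finset.card_univ, hcardP, nsmul_eq_mul]
  have hB : P.index ≤ (p - 1) * S := by
    rw [hind l, Finset.mul_sum]
    refine Finset.sum_le_sum fun χ _ => ?_
    rw [mul_comm (p - 1)]
    exact Nat.mul_le_mul_left _ (by have := hcon χ; omega)
  have hI := lt_index_normalizer hTI hmem hnn
  rw [← hqdef, ← hN] at hI
  have hG : N.index * Nat.card N = P.index * q := by
    rw [hqdef, N.index_mul_card, P.index_mul_card]
  have hN0 : 0 < Nat.card N := Nat.card_pos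
  have hC : ((q : ℤ) + 1) * Nat.card N ≤ (P.index : ℤ) * q := by
    have : (q + 1) * Nat.card N ≤ P.index * q := hG ▸ Nat.mul_le_mul_right _ hI
    exact_mod_cast this
  have hD : (P.index : ℤ) ≤ ((p : ℤ) - 1) * S := by
    have : ((P.index : ℕ) : ℤ) ≤ (((p - 1) * S : ℕ) : ℤ) := by exact_mod_cast hB
    push_cast [Nat.cast_sub (by omega : 1 ≤ p)] at this
    exact this
  have hp' : (2 : ℤ) ≤ p := by exact_mod_cast hp
  have hq' : (p : ℤ) ^ 2 ≤ q := by exact_mod_cast hq
  have hr : (0 : ℤ) ≤ (q : ℤ) + 1 - p := by nlinarith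
  have hE : ((q : ℤ) + 1 - p) * (((q : ℤ) + 1) * Nat.card N) ≤
      ((p : ℤ) - 1) * (q * (2 * Nat.card N)) :=
    calc ((q : ℤ) + 1 - p) * (((q : ℤ) + 1) * Nat.card N)
        ≤ ((q : ℤ) + 1 - p) * ((((p : ℤ) - 1) * S) * q) :=
          mul_le_mul_of_nonneg_left (hC.trans (mul_le_mul_of_nonneg_right hD (Int.natCast_nonneg _))) hr
      _ = ((p : ℤ) - 1) * ((q : ℤ) * ((q : ℤ) + 1 - p) * S) := by ring
      _ ≤ _ := mul_le_mul_of_nonneg_left hA (by linarith)
  have hN0' : (0 : ℤ) < Nat.card N := by exact_mod_cast hN0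
  have hF : ((q : ℤ) + 1 - p) * ((q : ℤ) + 1) ≤ ((p : ℤ) - 1) * (q * 2) :=
    le_of_mul_le_mul_right (by nlinarith) hN0'
  have h1 : (p : ℤ) * ((p : ℤ) - 1) + 1 ≤ (q : ℤ) + 1 - p := by nlinarith
  have h2 : ((p : ℤ) * ((p : ℤ) - 1) + 1) * ((q : ℤ) + 1) ≤ ((p : ℤ) - 1) * (q * 2) :=
    le_trans (mul_le_mul_of_nonneg_right h1 (by positivity)) hF
  nlinarith [mul_nonneg (mul_nonneg (sub_nonneg.2 hp') (show (0 : ℤ) ≤ (p : ℤ) - 1 by linarith))
    (Int.natCast_nonneg q), mul_nonneg (show (0 : ℤ) ≤ (p : ℤ) by linarith) (show (0 : ℤ) ≤ (p : ℤ) - 1 by linarith)]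

end CfsgLib.CharDegree.SmallTI
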